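import Mathlib
import Cfsg.Agent.Lib.Helper53.SteinbergSL2
import Cfsg.Agent.Lib.Helper53.SteinbergSL2Iso

/-!
# S2286 (helper53): bounded presentations of `SL₂(q)` and `PSL₂(q)` on three generators `u, t, s`

Definitions shared by all modules.  `h := s * t⁻¹` plays the role of the torus element `diag(λ, λ⁻¹)`,
`u ↦ x(1)`, `t ↦ w(1)`, `s ↦ w(λ)`.
-/

set_option autoImplicit false

namespace Cfsg.Agent.Lib.Helper53.SL2Pres

open Cfsg.Agent.Lib.Helper53

variable {G : Type*} [Group G] {G' : Type*} [Group G']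

/-- `h^i u h^-i`. -/
def uc (h u : G) (i : ℕ) : G := h ^ i * u * (h ^ i)⁻¹

/-- `Π_{i<e} (h^i u h^-i)^(c i)`, the factors in increasing order of `i`. -/
def pp (h u : G) {e : ℕ} (c : Fin e → ℕ) : G := (List.ofFn fun i : Fin e => uc h u i ^ c i).prod

theorem map_uc (φ : G →* G') (h u : G) (i : ℕ) : φ (uc h u i) = uc (φ h) (φ u) i := by
  simp [uc]

theorem map_pp (φ : G →* G') (h u : G) {e : ℕ} (c : Fin e → ℕ) :
    φ (pp h u c) = pp (φ h) (φ u) c := by
  unfold pp
  rw [map_list_prod, List.map_ofFn]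
  congr 1
  congr 1
  funext i
  simp [map_uc]

theorem uc_zero (h u : G) : uc h u 0 = u := by simp [uc]

theorem uc_succ (h u : G) (i : ℕ) : uc h u (i + 1) = h * uc h u i * h⁻¹ := by
  simp only [uc, pow_succ', mul_inv_rev]
  group

/-- every element of the list is `1` -/
def AllOne (l : List G) : Prop := ∀ g ∈ l, g = 1

/-- Field data: `K` has characteristic `p`, `lam` generates `Kˣ`, `1, β, …, β^(e-1)` (`β = lam^2`) is an
`𝔽_p`-basis of `K` (spanning with natural coefficients `hrep`, independence `hind`),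
`β^e = Σ b_i β^i`, `lam = Σ c_i β^i`, and for `e ≥ 2`: `β^k = (1+β)^2` (`p` odd) resp. `β^k = 1+β` (`p = 2`). -/
structure FieldData (K : Type*) [Field K] where
  p : ℕ
  e : ℕ
  lam : K
  b : Fin e → ℕ
  c : Fin e → ℕ
  k : ℕ
  hp : p.Prime
  hchar : CharP K p
  he : 0 < e
  hlam : lam ≠ 0
  hgen : ∀ a : K, a ≠ 0 → ∃ j : ℕ, a = lam ^ j
  hrep : ∀ a : K, ∃ d : Fin e → ℕ, a = ∑ i, (d i : K) * (lam ^ 2) ^ (i : ℕ)
  hind : ∀ d : Fin e → ℤ, ∑ i, (d i : K) * (lam ^ 2) ^ (i : ℕ) = 0 → ∀ i, (p : ℤ) ∣ d i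
  hb : (lam ^ 2) ^ e = ∑ i, (b i : K) * (lam ^ 2) ^ (i : ℕ)
  hc : lam = ∑ i, (c i : K) * (lam ^ 2) ^ (i : ℕ)
  hk_odd : p ≠ 2 → 2 ≤ e → (lam ^ 2) ^ k = (1 + lam ^ 2) ^ 2
  hk_even : p = 2 → 2 ≤ e → (lam ^ 2) ^ k = 1 + lam ^ 2

variable {K : Type*} [Field K]

/-- The hypotheses on a triple `u t s` of a group from which the rank-one Steinberg relations follow. -/
structure Core (D : FieldData K) (u t s : G) : Prop where
  hup : u ^ D.p = 1
  hcomm : ∀ i j : ℕ, Commute (uc (s * t⁻¹) u i) (uc (s * t⁻¹) u j)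
  hpoly : uc (s * t⁻¹) u D.e = pp (s * t⁻¹) u D.b
  hw1 : u * (t * u * t⁻¹) * u = t
  ht2 : (t * t) * u = u * (t * t)
  hst : s * s = t * t
  hwl : pp (s * t⁻¹) u D.c * (s * pp (s * t⁻¹) u D.c * s⁻¹) * pp (s * t⁻¹) u D.c = s

/-- relators common to the odd presentations: `u^p`, the polynomial relator, `w(1) = t`, `w(λ) = s`,
and (for `e ≥ 2`) the three relators making the conjugates of `u` commute. -/
def relsOddCommon (D : FieldData K) (u t s : G) : List G :=
  [u ^ D.p,
   uc (s * t⁻¹) u D.e * (pp (s * t⁻¹) u D.b)⁻¹,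
   u * (t * u * t⁻¹) * u * t⁻¹,
   pp (s * t⁻¹) u D.c * (s * pp (s * t⁻¹) u D.c * s⁻¹) * pp (s * t⁻¹) u D.c * s⁻¹] ++
  (if 2 ≤ D.e then
    [u * uc (s * t⁻¹) u 1 * u⁻¹ * (uc (s * t⁻¹) u 1)⁻¹, u * uc (s * t⁻¹) u 2 * u⁻¹ * (uc (s * t⁻¹) u 2)⁻¹,
     u * uc (s * t⁻¹) u 1 ^ 2 * uc (s * t⁻¹) u 2 * (uc (s * t⁻¹) u D.k)⁻¹] else [])

/-- the relators of `SL₂(q)`, `q` odd (at most 9). -/
def relsOddSL (D : FieldData K) (u t s : G) : List G :=
  relsOddCommon D u t s ++ [(t * u * t⁻¹) * u * (t * u * t⁻¹) * t⁻¹, s * s * (t * t)⁻¹]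

/-- the relators of `PSL₂(q)`, `q` odd (at most 9). -/
def relsOddPSL (D : FieldData K) (u t s : G) : List G :=
  relsOddCommon D u t s ++ [t * t, s * s]

/-- the relators of `SL₂(q) = PSL₂(q)`, `q` even (at most 5). -/
def relsEven (D : FieldData K) (u t s : G) : List G :=
  [u * u,
   u * t * u * (t * u * t)⁻¹,
   pp (s * t⁻¹) u D.c * s * pp (s * t⁻¹) u D.c * (s * pp (s * t⁻¹) u D.c * s)⁻¹,
   uc (s * t⁻¹) u D.e * (pp (s * t⁻¹) u D.b)⁻¹] ++
  (if 2 ≤ D.e then [u * uc (s * t⁻¹) u 1 * (uc (s * t⁻¹) u D.k)⁻¹] else [])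

/-- the relators of `SL₂(q)`. -/
def relsSL (D : FieldData K) (u t s : G) : List G :=
  if D.p = 2 then relsEven D u t s else relsOddSL D u t s

theorem relsOddCommon_length (D : FieldData K) (u t s : G) : (relsOddCommon D u t s).length ≤ 7 := by
  unfold relsOddCommon
  split_ifs <;> simp

theorem relsOddSL_length (D : FieldData K) (u t s : G) : (relsOddSL D u t s).length ≤ 9 := by
  have := relsOddCommon_length D u t s
  simp only [relsOddSL, List.length_append, List.length_cons, List.length_nil]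
  omega

theorem relsOddPSL_length (D : FieldData K) (u t s : G) : (relsOddPSL D u t s).length ≤ 9 := by
  have := relsOddCommon_length D u t s
  simp only [relsOddPSL, List.length_append, List.length_cons, List.length_nil]
  omega

theorem relsEven_length (D : FieldData K) (u t s : G) : (relsEven D u t s).length ≤ 5 := by
  unfold relsEven
  split_ifs <;> simp

theorem relsSL_length (D : FieldData K) (u t s : G) : (relsSL D u t s).length ≤ 9 := by
  unfold relsSL
  split_ifs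
  · exact (relsEven_length D u t s).trans (by norm_num)
  · exact relsOddSL_length D u t s

theorem map_relsOddCommon (φ : G →* G') (D : FieldData K) (u t s : G) :
    (relsOddCommon D u t s).map φ = relsOddCommon D (φ u) (φ t) (φ s) := by
  unfold relsOddCommon
  split_ifs <;> simp [map_uc, map_pp]

theorem map_relsOddSL (φ : G →* G') (D : FieldData K) (u t s : G) :
    (relsOddSL D u t s).map φ = relsOddSL D (φ u) (φ t) (φ s) := by
  simp [relsOddSL, map_relsOddCommon]

theorem map_relsOddPSL (φ : G →* G') (D : FieldData K) (u t s : G) :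
    (relsOddPSL D u t s).map φ = relsOddPSL D (φ u) (φ t) (φ s) := by
  simp [relsOddPSL, map_relsOddCommon]

theorem map_relsEven (φ : G →* G') (D : FieldData K) (u t s : G) :
    (relsEven D u t s).map φ = relsEven D (φ u) (φ t) (φ s) := by
  unfold relsEven
  split_ifs <;> simp [map_uc, map_pp]

theorem map_relsSL (φ : G →* G') (D : FieldData K) (u t s : G) :
    (relsSL D u t s).map φ = relsSL D (φ u) (φ t) (φ s) := by
  unfold relsSL
  split_ifs
  · exact map_relsEven φ D u t s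
  · exact map_relsOddSL φ D u t s

theorem AllOne.map (φ : G →* G') {l : List G} (h : AllOne l) : AllOne (l.map φ) := by
  intro g hg
  obtain ⟨x, hx, rfl⟩ := List.mem_map.mp hg
  rw [h x hx, map_one]

theorem allOne_append {l₁ l₂ : List G} : AllOne (l₁ ++ l₂) ↔ AllOne l₁ ∧ AllOne l₂ := by
  simp [AllOne, or_imp, forall_and]

end Cfsg.Agent.Lib.Helper53.SL2Pres
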