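import Mathlib
import Cfsg.Agent.Lib.Helper53.SL2Pres.Defs
import Cfsg.Agent.Lib.Helper12.SL2PresXmap2
import Cfsg.Agent.Lib.Helper36.SL2PresRank1B
import Cfsg.Agent.Lib.Helper36.SL2PresRank1C
import Cfsg.Agent.Lib.Helper83.SL2PresT1OddPSL
import Cfsg.Agent.Lib.Helper83.SL2PresT1Even
import Cfsg.Agent.Lib.Helper93.SL2PresT2SL
import Cfsg.Agent.Lib.Helper30.SL2PresFieldTop
import Cfsg.Agent.Lib.Helper30.SL2PresFieldPB
import Cfsg.Agent.Lib.Helper30.SL2PresFieldK
import Cfsg.Agent.Lib.Helper47.SL2PresCenter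
import Cfsg.Agent.Lib.Helper47.SL2PresLift

/-!
# S2286 (helper53): assembly of the modules into the presentations of `SL₂(q)` and `PSL₂(q)`
-/

set_option autoImplicit false

namespace Cfsg.Agent.Lib.Helper53.SL2Pres

open Cfsg.Agent.Lib.Helper53 Cfsg.Agent.Lib.Helper53.Steinberg
open Cfsg.Agent.Lib.Helper12.SL2Pres (exists_X_add X_conj)
open Cfsg.Agent.Lib.Helper36.SL2Pres (rank_one_W rank_one_relX rank_one_relY)
open Cfsg.Agent.Lib.Helper83.SL2Pres (core_of_relsOddSL core_of_relsOddPSL core_of_relsEven)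
open Cfsg.Agent.Lib.Helper93.SL2Pres (mat_pp mat_relsOddCommon mat_relsSL)
open Cfsg.Agent.Lib.Helper30.SL2Pres (adjoin_sq_eq_top rep_of_adjoin_eq_top exists_k)
open Cfsg.Agent.Lib.Helper47.SL2Pres (W_sq_mem_center center_le_ker psl_equiv_sl_of_char_two
  exists_hom_of_data)

variable {G : Type*} [Group G] {K : Type*} [Field K]

theorem exists_X (D : FieldData K) (h u : G) (hup : u ^ D.p = 1)
    (hcomm : ∀ i j : ℕ, Commute (uc h u i) (uc h u j))
    (hpoly : uc h u D.e = pp h u D.b) :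
    ∃ X : K → G, (∀ a b, X a * X b = X (a + b)) ∧ X 1 = u ∧
      (∀ d : Fin D.e → ℕ, X (∑ i, (d i : K) * (D.lam ^ 2) ^ (i : ℕ)) = pp h u d) ∧
      (∀ a, h * X a * h⁻¹ = X (D.lam ^ 2 * a)) := by
  obtain ⟨X, hadd, h1, hform⟩ := exists_X_add D h u hup hcomm
  exact ⟨X, hadd, h1, hform, X_conj D h u X hadd hform hpoly⟩

theorem data_of_rank_one (X : K → G) (t s : G) (lam : K) (hlam : lam ≠ 0)
    (hgen : ∀ a : K, a ≠ 0 → ∃ j : ℕ, a = lam ^ j)
    (hadd : ∀ a b, X a * X b = X (a + b))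
    (hconj : ∀ a, (s * t⁻¹) * X a * (s * t⁻¹)⁻¹ = X (lam ^ 2 * a))
    (hst : s * s = t * t)
    (ht2 : ∀ a, (t * t) * X a = X a * (t * t))
    (hw1 : X 1 * (t * X 1 * t⁻¹) * X 1 = t)
    (hwl : X lam * (s * X lam * s⁻¹) * X lam = s) :
    Data X (fun b => t * X (-b) * t⁻¹) ∧
      W X (fun b => t * X (-b) * t⁻¹) 1 = t ∧
      W X (fun b => t * X (-b) * t⁻¹) lam = s := by
  have hW := rank_one_W X t s lam hlam hadd hconj hst hw1 hwl
  have hrelX := rank_one_relX X t s lam hlam hgen hadd hconj hst hW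
  refine ⟨⟨hadd, ?_, hrelX, rank_one_relY X t hadd ht2 hrelX⟩, ?_, ?_⟩
  · intro a b
    have : t * X (-a) * t⁻¹ * (t * X (-b) * t⁻¹) = t * (X (-a) * X (-b)) * t⁻¹ := by group
    show t * X (-a) * t⁻¹ * (t * X (-b) * t⁻¹) = t * X (-(a + b)) * t⁻¹
    rw [this, hadd, neg_add]
  · have := hW 0
    simpa using this
  · have := hW 1
    simpa using this

/-- [CORE] -/
theorem core_data (D : FieldData K) {u t s : G} (hc : Core D u t s) :
    ∃ X : K → G, Data X (fun b => t * X (-b) * t⁻¹) ∧ X 1 = u ∧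
      (∀ d : Fin D.e → ℕ, X (∑ i, (d i : K) * (D.lam ^ 2) ^ (i : ℕ)) = pp (s * t⁻¹) u d) ∧
      W X (fun b => t * X (-b) * t⁻¹) 1 = t ∧
      W X (fun b => t * X (-b) * t⁻¹) D.lam = s := by
  obtain ⟨X, hadd, h1, hform, hconj⟩ := exists_X D (s * t⁻¹) u hc.hup hc.hcomm hc.hpoly
  have htt_h : Commute (t * t) (s * t⁻¹) := by
    have e1 : (t * t) * (s * t⁻¹) = (s * s) * (s * t⁻¹) := by rw [hc.hst]
    have e2 : (s * s) * (s * t⁻¹) = s * (s * s) * t⁻¹ := by group
    have e3 : s * (t * t) * t⁻¹ = (s * t⁻¹) * (t * t) := by group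
    show (t * t) * (s * t⁻¹) = (s * t⁻¹) * (t * t)
    rw [e1, e2, hc.hst, e3]
  have htt_uc : ∀ i, Commute (t * t) (uc (s * t⁻¹) u i) := by
    intro i
    unfold uc
    exact ((htt_h.pow_right i).mul_right hc.ht2).mul_right (htt_h.pow_right i).inv_right
  have htt_pp : ∀ d : Fin D.e → ℕ, Commute (t * t) (pp (s * t⁻¹) u d) := by
    intro d
    unfold pp
    apply Commute.list_prod_right
    intro x hx
    rw [List.mem_ofFn] at hx
    obtain ⟨i, rfl⟩ := hx
    exact (htt_uc i).pow_right _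
  have ht2 : ∀ a, (t * t) * X a = X a * (t * t) := by
    intro a
    obtain ⟨d, rfl⟩ := D.hrep a
    rw [hform]
    exact htt_pp d
  have hXlam : X D.lam = pp (s * t⁻¹) u D.c := by
    have := hform D.c
    rwa [← D.hc] at this
  obtain ⟨hD, hW1, hWl⟩ := data_of_rank_one X t s D.lam D.hlam D.hgen hadd hconj hc.hst ht2
    (by rw [h1]; exact hc.hw1) (by rw [hXlam]; exact hc.hwl)
  exact ⟨X, hD, h1, hform, hW1, hWl⟩

theorem core_of_relsSL (D : FieldData K) {u t s : G} (h : AllOne (relsSL D u t s)) :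
    Core D u t s := by
  unfold relsSL at h
  split_ifs at h with hp
  · exact core_of_relsEven D hp h
  · exact core_of_relsOddSL D h

theorem exists_fieldData (K : Type*) [Field K] [Finite K] : Nonempty (FieldData K) := by
  obtain ⟨lam, hlam, hgen⟩ := exists_generator K
  have hchar : CharP K (ringChar K) := ringChar.charP K
  have hp : (ringChar K).Prime := CharP.char_is_prime K (ringChar K)
  have : Fact (ringChar K).Prime := ⟨hp⟩
  let _ : Algebra (ZMod (ringChar K)) K := ZMod.algebra K (ringChar K)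
  obtain ⟨e, he, hrep, hind⟩ := rep_of_adjoin_eq_top (p := ringChar K) (lam ^ 2)
    (adjoin_sq_eq_top lam hgen)
  obtain ⟨k, hk1, hk2⟩ := exists_k (ringChar K) e hp hchar lam hlam hgen hind
  obtain ⟨b, hb⟩ := hrep ((lam ^ 2) ^ e)
  obtain ⟨c, hc⟩ := hrep lam
  exact ⟨{ p := ringChar K, e := e, lam := lam, b := b, c := c, k := k, hp := hp, hchar := hchar,
           he := he, hlam := hlam, hgen := hgen, hrep := hrep, hind := hind, hb := hb, hc := hc,
           hk_odd := hk1, hk_even := hk2 }⟩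

/-! ### presentations from lists of relators -/

/-- the three free generators -/
abbrev gu : FreeGroup (Fin 3) := FreeGroup.of 0
abbrev gt : FreeGroup (Fin 3) := FreeGroup.of 1
abbrev gs : FreeGroup (Fin 3) := FreeGroup.of 2

theorem allOne_mk (l : List (FreeGroup (Fin 3))) :
    AllOne (l.map (PresentedGroup.mk (↑l.toFinset : Set (FreeGroup (Fin 3))))) := by
  intro g hg
  obtain ⟨r, hr, rfl⟩ := List.mem_map.mp hg
  apply PresentedGroup.one_of_mem
  simpa using hr

theorem lift_eq_one_of_allOne {H : Type*} [Group H] (l : List (FreeGroup (Fin 3))) (f : Fin 3 → H)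
    (hl : AllOne (l.map (FreeGroup.lift f))) :
    ∀ r ∈ (↑l.toFinset : Set (FreeGroup (Fin 3))), FreeGroup.lift f r = 1 := by
  intro r hr
  have hr' : r ∈ l := by simpa using hr
  exact hl _ (List.mem_map.mpr ⟨r, hr', rfl⟩)

/-- the images of `X a`, `Y b` under a homomorphism with the expected values on `u, t, s`. -/
theorem hom_X_Y {P H : Type*} [Group P] [Group H] (D : FieldData K) {u t s : P} (X : K → P)
    (hform : ∀ d : Fin D.e → ℕ, X (∑ i, (d i : K) * (D.lam ^ 2) ^ (i : ℕ)) = pp (s * t⁻¹) u d)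
    (Ψ : P →* H) (π : Matrix.SpecialLinearGroup (Fin 2) K →* H)
    (hu : Ψ u = π (xM 1)) (ht : Ψ t = π (W xM yM 1)) (hs : Ψ s = π (W xM yM D.lam)) :
    (∀ a, Ψ (X a) = π (xM a)) ∧ (∀ b, Ψ (t * X (-b) * t⁻¹) = π (yM b)) := by
  have hX : ∀ a, Ψ (X a) = π (xM a) := by
    intro a
    obtain ⟨d, rfl⟩ := D.hrep a
    rw [hform, map_pp, map_mul, map_inv, hu, ht, hs, ← map_inv, ← map_mul, ← map_pp, mat_pp]
  refine ⟨hX, fun b => ?_⟩
  rw [map_mul, map_mul, map_inv, hX, ht, ← map_inv, ← map_mul, ← map_mul]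
  congr 1
  have := (dataM (K := K)).relX 1 (-b) one_ne_zero
  rw [MulAut.conj_apply] at this
  rw [this]
  congr 1
  simp

/-- [T3-SL] -/
theorem presSL [Finite K] (D : FieldData K) :
    Nonempty (PresentedGroup (↑(relsSL D gu gt gs).toFinset : Set (FreeGroup (Fin 3))) ≃*
      Matrix.SpecialLinearGroup (Fin 2) K) := by
  set rels : Set (FreeGroup (Fin 3)) := ↑(relsSL D gu gt gs).toFinset with hrels
  set u : PresentedGroup rels := PresentedGroup.of 0 with hu
  set t : PresentedGroup rels := PresentedGroup.of 1 with ht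
  set s : PresentedGroup rels := PresentedGroup.of 2 with hs
  have hall : AllOne (relsSL D u t s) := by
    have := allOne_mk (relsSL D gu gt gs)
    rwa [map_relsSL] at this
  have hcore := core_of_relsSL D hall
  obtain ⟨X, hD, h1, hform, hW1, hWl⟩ := core_data D hcore
  -- the map to SL₂
  let f : Fin 3 → Matrix.SpecialLinearGroup (Fin 2) K :=
    ![xM 1, W xM yM 1, W xM yM D.lam]
  have hf : ∀ r ∈ rels, FreeGroup.lift f r = 1 := by
    apply lift_eq_one_of_allOne
    rw [map_relsSL]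
    simpa [f] using mat_relsSL D
  let Ψ : PresentedGroup rels →* Matrix.SpecialLinearGroup (Fin 2) K := PresentedGroup.toGroup hf
  have hΨu : Ψ u = xM 1 := by simp [Ψ, hu, f]
  have hΨt : Ψ t = W xM yM 1 := by simp [Ψ, ht, f]
  have hΨs : Ψ s = W xM yM D.lam := by simp [Ψ, hs, f]
  obtain ⟨hΨX, hΨY⟩ := hom_X_Y D X hform Ψ (MonoidHom.id _) hΨu hΨt hΨs
  -- generation
  have hgen : Subgroup.closure (Set.range X ∪ Set.range fun b => t * X (-b) * t⁻¹) = ⊤ := by
    rw [eq_top_iff, ← PresentedGroup.closure_range_of, Subgroup.closure_le]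
    have hXm : ∀ a, X a ∈ Subgroup.closure (Set.range X ∪ Set.range fun b => t * X (-b) * t⁻¹) :=
      fun a => Subgroup.subset_closure (Or.inl ⟨a, rfl⟩)
    have hYm : ∀ b, t * X (-b) * t⁻¹ ∈
        Subgroup.closure (Set.range X ∪ Set.range fun b => t * X (-b) * t⁻¹) :=
      fun b => Subgroup.subset_closure (Or.inr ⟨b, rfl⟩)
    have hWm : ∀ a, W X (fun b => t * X (-b) * t⁻¹) a ∈
        Subgroup.closure (Set.range X ∪ Set.range fun b => t * X (-b) * t⁻¹) := by
      intro a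
      unfold W
      exact mul_mem (mul_mem (hXm a) (hYm _)) (hXm a)
    rintro _ ⟨i, rfl⟩
    fin_cases i
    · have := hXm 1
      rwa [h1] at this
    · have := hWm 1
      rwa [hW1] at this
    · have := hWm D.lam
      rwa [hWl] at this
  have hinj : Function.Injective Ψ := hD.injective_of_hom hgen Ψ hΨX hΨY
  have hsurj : Function.Surjective Ψ := by
    intro M
    have hM := mem_closure_xM_yM M
    have hle : Subgroup.closure (Set.range (xM : K → _) ∪ Set.range (yM : K → _)) ≤ Ψ.range := by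
      rw [Subgroup.closure_le]
      rintro _ (⟨a, rfl⟩ | ⟨a, rfl⟩)
      · exact ⟨X a, hΨX a⟩
      · exact ⟨_, hΨY a⟩
    exact hle hM
  exact ⟨MulEquiv.ofBijective Ψ ⟨hinj, hsurj⟩⟩

/-- [T3-PSL] -/
theorem presPSL_odd [Finite K] (D : FieldData K) (hp : D.p ≠ 2) :
    Nonempty (PresentedGroup (↑(relsOddPSL D gu gt gs).toFinset : Set (FreeGroup (Fin 3))) ≃*
      Matrix.ProjectiveSpecialLinearGroup (Fin 2) K) := by
  set rels : Set (FreeGroup (Fin 3)) := ↑(relsOddPSL D gu gt gs).toFinset with hrels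
  set u : PresentedGroup rels := PresentedGroup.of 0 with hu
  set t : PresentedGroup rels := PresentedGroup.of 1 with ht
  set s : PresentedGroup rels := PresentedGroup.of 2 with hs
  have hall : AllOne (relsOddPSL D u t s) := by
    have := allOne_mk (relsOddPSL D gu gt gs)
    rwa [map_relsOddPSL] at this
  have hcore := core_of_relsOddPSL D hall
  obtain ⟨X, hD, h1, hform, hW1, hWl⟩ := core_data D hcore
  have htt : t * t = 1 := hall _ (by simp [relsOddPSL])
  obtain ⟨Φ, hΦX, hΦY⟩ := exists_hom_of_data hD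
  have hcen : Subgroup.center (Matrix.SpecialLinearGroup (Fin 2) K) ≤ Φ.ker :=
    center_le_ker Φ hΦX hΦY (by rw [hW1]; exact htt)
  let π : Matrix.SpecialLinearGroup (Fin 2) K →* Matrix.ProjectiveSpecialLinearGroup (Fin 2) K :=
    QuotientGroup.mk' _
  let Φb : Matrix.ProjectiveSpecialLinearGroup (Fin 2) K →* PresentedGroup rels :=
    QuotientGroup.lift _ Φ hcen
  have hΦb : ∀ M, Φb (π M) = Φ M := fun M => rfl
  -- the map to PSL₂
  let f : Fin 3 → Matrix.ProjectiveSpecialLinearGroup (Fin 2) K :=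
    ![π (xM 1), π (W xM yM 1), π (W xM yM D.lam)]
  have hπW : ∀ a : K, a ≠ 0 → π (W xM yM a * W xM yM a) = 1 := by
    intro a ha
    exact (QuotientGroup.eq_one_iff _).mpr (W_sq_mem_center ha)
  have hf : ∀ r ∈ rels, FreeGroup.lift f r = 1 := by
    apply lift_eq_one_of_allOne
    rw [map_relsOddPSL]
    have e : relsOddPSL D (FreeGroup.lift f gu) (FreeGroup.lift f gt) (FreeGroup.lift f gs) =
        (relsOddPSL D (xM (1 : K)) (W xM yM 1) (W xM yM D.lam)).map π := by
      rw [map_relsOddPSL]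
      simp [f]
    rw [e]
    unfold relsOddPSL
    rw [List.map_append, allOne_append]
    refine ⟨AllOne.map π (mat_relsOddCommon D hp), ?_⟩
    intro g hg
    simp only [List.map_cons, List.map_nil, List.mem_cons, List.not_mem_nil, or_false] at hg
    rcases hg with rfl | rfl
    · exact hπW 1 one_ne_zero
    · exact hπW D.lam D.hlam
  let Ψ : PresentedGroup rels →* Matrix.ProjectiveSpecialLinearGroup (Fin 2) K :=
    PresentedGroup.toGroup hf
  have hΨu : Ψ u = π (xM 1) := by simp [Ψ, hu, f]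
  have hΨt : Ψ t = π (W xM yM 1) := by simp [Ψ, ht, f]
  have hΨs : Ψ s = π (W xM yM D.lam) := by simp [Ψ, hs, f]
  obtain ⟨hΨX, hΨY⟩ := hom_X_Y D X hform Ψ π hΨu hΨt hΨs
  have hΦW : ∀ a, Φ (W xM yM a) = W X (fun b => t * X (-b) * t⁻¹) a := by
    intro a
    unfold W
    rw [map_mul, map_mul, hΦX, hΦY]
  -- Φb ∘ Ψ = id
  have hcomp : Φb.comp Ψ = MonoidHom.id _ := by
    apply PresentedGroup.ext
    intro i
    fin_cases i
    · show Φb (Ψ u) = u
      rw [hΨu, hΦb, hΦX, h1]
    · show Φb (Ψ t) = t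
      rw [hΨt, hΦb, hΦW, hW1]
    · show Φb (Ψ s) = s
      rw [hΨs, hΦb, hΦW, hWl]
  have hinj : Function.Injective Ψ := by
    intro a b hab
    have := congrArg Φb hab
    have ha : Φb (Ψ a) = a := DFunLike.congr_fun hcomp a
    have hb : Φb (Ψ b) = b := DFunLike.congr_fun hcomp b
    rwa [ha, hb] at this
  have hsurj : Function.Surjective Ψ := by
    intro g
    obtain ⟨M, rfl⟩ := QuotientGroup.mk_surjective g
    have hM := mem_closure_xM_yM M
    have hle : Subgroup.closure (Set.range (xM : K → _) ∪ Set.range (yM : K → _)) ≤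
        Ψ.range.comap π := by
      rw [Subgroup.closure_le]
      rintro _ (⟨a, rfl⟩ | ⟨a, rfl⟩)
      · exact ⟨X a, hΨX a⟩
      · exact ⟨_, hΨY a⟩
    exact hle hM
  exact ⟨MulEquiv.ofBijective Ψ ⟨hinj, hsurj⟩⟩

/-- the statement of S2286 -/
theorem main_result {F : Type*} [Field F] [Fintype F] :
    (∃ rels : Finset (FreeGroup (Fin 3)), rels.card ≤ 9 ∧ Nonempty (PresentedGroup (↑rels : Set (FreeGroup (Fin 3))) ≃* Matrix.SpecialLinearGroup (Fin 2) F)) ∧ (∃ rels : Finset (FreeGroup (Fin 3)), rels.card ≤ 9 ∧ Nonempty (PresentedGroup (↑rels : Set (FreeGroup (Fin 3))) ≃* Matrix.ProjectiveSpecialLinearGroup (Fin 2) F)) ∧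
    (CharP F 2 → ∃ rels : Finset (FreeGroup (Fin 3)), rels.card ≤ 5 ∧ Nonempty (PresentedGroup (↑rels : Set (FreeGroup (Fin 3))) ≃* Matrix.ProjectiveSpecialLinearGroup (Fin 2) F)) := by
  obtain ⟨D⟩ := exists_fieldData F
  have hSL := presSL D
  have hPSL2 : D.p = 2 → Nonempty (PresentedGroup
      (↑(relsSL D gu gt gs).toFinset : Set (FreeGroup (Fin 3))) ≃*
        Matrix.ProjectiveSpecialLinearGroup (Fin 2) F) := by
    intro hp
    have : CharP F 2 := hp ▸ D.hchar
    obtain ⟨e⟩ := psl_equiv_sl_of_char_two (K := F)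
    obtain ⟨e'⟩ := hSL
    exact ⟨e'.trans e.symm⟩
  refine ⟨⟨(relsSL D gu gt gs).toFinset,
    (List.toFinset_card_le _).trans (relsSL_length D _ _ _), hSL⟩, ?_, ?_⟩
  · by_cases hp : D.p = 2
    · exact ⟨(relsSL D gu gt gs).toFinset,
        (List.toFinset_card_le _).trans (relsSL_length D _ _ _), hPSL2 hp⟩
    · exact ⟨(relsOddPSL D gu gt gs).toFinset,
        (List.toFinset_card_le _).trans (relsOddPSL_length D _ _ _), presPSL_odd D hp⟩
  · intro hc
    have hp : D.p = 2 := CharP.eq F D.hchar hc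
    refine ⟨(relsSL D gu gt gs).toFinset, ?_, hPSL2 hp⟩
    have h5 : (relsSL D gu gt gs).length ≤ 5 := by
      unfold relsSL
      rw [if_pos hp]
      exact relsEven_length D _ _ _
    exact (List.toFinset_card_le _).trans h5

end Cfsg.Agent.Lib.Helper53.SL2Pres
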